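import Cfsg.Prelude.Def_Balance
import Cfsg.Agent.Lib.Components.PComponent
import Cfsg.Agent.Lib.PSolvable.HallHigman
import Cfsg.Agent.Lib.Balance.Basic

/-!
# The extended 2-layer from a single Sylow subgroup

Owner: helper34. Namespace `Cfsg.Agent.Lib.ExtLayer`.
-/

set_option autoImplicit false

open Cfsg Subgroup
open Cfsg.Agent.Lib Cfsg.Agent.Lib.Components

namespace Cfsg.Agent.Lib.ExtLayer

variable {X : Type*} [Group X]

/-- `L_{2'}(X) O_{2',2}(X)`. -/
abbrev base (X : Type*) [Group X] : Subgroup X := pLayer 2 X ⊔ pPrimePCore 2 X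

/-- A Sylow 2-subgroup of `base X` inside `X`. -/
abbrev hat (T : Sylow 2 ↥(base X)) : Subgroup X := (T : Subgroup ↥(base X)).map (base X).subtype

/-- `O(C_X(T))`. -/
abbrev coreCent (T : Sylow 2 ↥(base X)) : Subgroup X :=
  Balance.coreIn 2 (Subgroup.centralizer (hat T : Set X))

theorem extendedTwoLayer_eq : extendedTwoLayer X =
    pLayer 2 X ⊔ oddCore X ⊔ ⨆ T : Sylow 2 ↥(base X), coreCent T := rfl

instance pPrimePCore_normal' : (pPrimePCore 2 X).Normal :=
  Subgroup.Normal.comap inferInstance _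

instance base_normal [Finite X] : (base X).Normal := Subgroup.sup_normal _ _

theorem map_centralizer (e : X ≃* X) (H : Subgroup X) :
    (Subgroup.centralizer (H : Set X)).map e.toMonoidHom =
      Subgroup.centralizer (H.map e.toMonoidHom : Set X) := by
  ext y
  constructor
  · rintro ⟨x, hx, rfl⟩
    rw [Subgroup.mem_centralizer_iff]
    rintro _ ⟨h, hh, rfl⟩
    rw [← map_mul, ← map_mul, Subgroup.mem_centralizer_iff.1 hx h hh]
  · intro hy
    refine ⟨e.symm y, Subgroup.mem_centralizer_iff.2 fun h hh => e.injective ?_, e.apply_symm_apply y⟩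
    rw [map_mul, map_mul, e.apply_symm_apply]
    exact Subgroup.mem_centralizer_iff.1 hy (e h) ⟨h, hh, rfl⟩

theorem coreIn_centralizer_conj (g : X) (H : Subgroup X) :
    (Balance.coreIn 2 (Subgroup.centralizer (H : Set X))).map (MulAut.conj g).toMonoidHom =
      Balance.coreIn 2 (Subgroup.centralizer (H.map (MulAut.conj g).toMonoidHom : Set X)) := by
  rw [Balance.map_coreIn, map_centralizer]

/-- `N_X(H)` normalizes `O(C_X(H))`. -/
theorem normalizer_le_normalizer_coreIn_centralizer (H : Subgroup X) :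
    Subgroup.normalizer (H : Set X) ≤
      Subgroup.normalizer (Balance.coreIn 2 (Subgroup.centralizer (H : Set X)) : Set X) := by
  intro g hg
  rw [Subgroup.mem_normalizer_iff_map_conj_eq] at hg ⊢
  show Subgroup.map (MulAut.conj g).toMonoidHom _ = _
  rw [coreIn_centralizer_conj]
  exact congrArg (fun K : Subgroup X => Balance.coreIn 2 (Subgroup.centralizer (K : Set X))) hg

theorem le_normalizer_sup {A K L : Subgroup X} [L.Normal]
    (h : A ≤ Subgroup.normalizer (K : Set X)) : A ≤ Subgroup.normalizer ((L ⊔ K : Subgroup X) : Set X) := by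
  intro a ha
  have hK := Subgroup.mem_normalizer_iff_map_conj_eq.1 (h ha)
  rw [Subgroup.mem_normalizer_iff_map_conj_eq]
  show Subgroup.map (MulAut.conj a).toMonoidHom _ = _
  rw [Subgroup.map_sup]
  refine congrArg₂ (· ⊔ ·) ?_ hK
  exact Subgroup.mem_normalizer_iff_map_conj_eq.1 (by rw [Subgroup.normalizer_eq_top]; trivial)

variable [Finite X]

theorem exists_sylow_le {R : Subgroup X} (hR : IsPGroup 2 ↥R) (hle : R ≤ base X) :
    ∃ T : Sylow 2 ↥(base X), R ≤ hat T := by
  obtain ⟨T, hT⟩ := IsPGroup.exists_le_sylow (P := R.subgroupOf (base X))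
    (hR.of_equiv (Subgroup.subgroupOfEquivOfLe hle).symm)
  refine ⟨T, ?_⟩
  have := Subgroup.map_mono (f := (base X).subtype) hT
  rwa [Subgroup.map_subgroupOf_eq_of_le hle] at this

/-- `base X` normalizes the subgroup built from any of its Sylow 2-subgroups. -/
theorem base_le_normalizer (T : Sylow 2 ↥(base X)) :
    base X ≤ Subgroup.normalizer ((pLayer 2 X ⊔ oddCore X ⊔ coreCent T : Subgroup X) : Set X) := by
  obtain ⟨S⟩ : Nonempty (Sylow 2 ↥(pPrimePCore 2 X)) := inferInstance
  set Ŝ := (S : Subgroup ↥(pPrimePCore 2 X)).map (pPrimePCore 2 X).subtype with hŜ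
  have hS2 : IsPGroup 2 ↥Ŝ := S.isPGroup'.map _
  have hSle : Ŝ ≤ base X := (Subgroup.map_subtype_le _).trans le_sup_right
  obtain ⟨T₁, hT₁⟩ := exists_sylow_le hS2 hSle
  obtain ⟨n, hn⟩ := MulAction.exists_smul_eq (↥(base X)) T₁ T
  have hconj : (hat T₁).map (MulAut.conj (n : X)).toMonoidHom = hat T := by
    subst hn
    show ((T₁ : Subgroup ↥(base X)).map (base X).subtype).map _ =
      (((T₁ : Subgroup ↥(base X)).map (MulAut.conj n).toMonoidHom)).map (base X).subtype
    rw [Subgroup.map_map, Subgroup.map_map]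
    rfl
  have hcore : pPrimePCore 2 X = oddCore X ⊔ Ŝ := by
    have h := PSolvable.map_sylow_pPrimePCore S
    have h2 := congrArg (Subgroup.comap (QuotientGroup.mk' (pPrimeCore 2 X))) h
    rw [Subgroup.comap_map_eq, QuotientGroup.ker_mk', sup_comm] at h2
    exact h2.symm
  set S' := Ŝ.map (MulAut.conj (n : X)).toMonoidHom with hS'
  have hcore' : pPrimePCore 2 X ≤ oddCore X ⊔ S' := by
    have hfix : ∀ N : Subgroup X, N.Normal → N.map (MulAut.conj (n : X)).toMonoidHom = N := by
      intro N hN
      exact Subgroup.mem_normalizer_iff_map_conj_eq.1 (by rw [Subgroup.normalizer_eq_top]; trivial)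
    have h2 := congrArg (Subgroup.map (MulAut.conj (n : X)).toMonoidHom) hcore
    rw [Subgroup.map_sup, hfix _ inferInstance, hfix _ inferInstance] at h2
    exact h2.le
  have hS'T : S' ≤ hat T := hconj ▸ Subgroup.map_mono hT₁
  set M := pLayer 2 X ⊔ oddCore X ⊔ coreCent T
  have hL : pLayer 2 X ≤ Subgroup.normalizer (M : Set X) :=
    (le_sup_left.trans le_sup_left : pLayer 2 X ≤ M).trans Subgroup.le_normalizer
  refine sup_le hL (hcore'.trans (sup_le ?_ ?_))
  · exact (le_sup_right.trans le_sup_left : oddCore X ≤ M).trans Subgroup.le_normalizer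
  · exact le_normalizer_sup ((hS'T.trans Subgroup.le_normalizer).trans
      (normalizer_le_normalizer_coreIn_centralizer _))

/-- One Sylow 2-subgroup already gives the extended 2-layer. -/
theorem extendedTwoLayer_eq_single (T : Sylow 2 ↥(base X)) :
    extendedTwoLayer X = pLayer 2 X ⊔ oddCore X ⊔ coreCent T := by
  rw [extendedTwoLayer_eq]
  refine le_antisymm (sup_le le_sup_left (iSup_le fun T' => ?_))
    (sup_le le_sup_left (le_sup_of_le_right (le_iSup (fun T => coreCent T) T)))
  obtain ⟨n, hn⟩ := MulAction.exists_smul_eq (↥(base X)) T T'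
  subst hn
  have hhat : hat (n • T) = (hat T).map (MulAut.conj (n : X)).toMonoidHom := by
    show ((T : Subgroup ↥(base X)).map (MulAut.conj n).toMonoidHom).map (base X).subtype = _
    rw [Subgroup.map_map, Subgroup.map_map]
    rfl
  have h1 : coreCent (n • T) = (coreCent T).map (MulAut.conj (n : X)).toMonoidHom := by
    rw [coreCent, coreCent, hhat, coreIn_centralizer_conj]
  rw [h1]
  refine le_trans (Subgroup.map_mono (le_sup_right : coreCent T ≤ pLayer 2 X ⊔ oddCore X ⊔ coreCent T)) ?_
  exact (Subgroup.mem_normalizer_iff_map_conj_eq.1 (base_le_normalizer T n.2)).le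

end Cfsg.Agent.Lib.ExtLayer
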