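import Cfsg.Agent.Lib.ExtLayer.Basic
import Cfsg.Agent.Lib.Balance.LBalance
import Cfsg.Agent.Lib.Components.GenFitting
import Cfsg.Agent.Lib.FTDeps.FixingSylowSolvable

/-!
# Core balance for the prime 2

Owner: helper3. Namespace `Cfsg.Agent.Lib.ExtLayer.CoreBalance`.

* `mem_coreIn_centralizer_hat`: for a Sylow 2-subgroup `T` of `L_{2'}(X) O_{2',2}(X)` the elements
  of odd order of `C_X(T)` lie in `O(C_X(T))`;
* `coreIn_centralizer_le`: `O(C_X(R)) ≤ L*_{2'}(X)` for every 2-subgroup `R`.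

No hypothesis on composition factors is needed.  `OddOrderSolvable` is taken as a hypothesis.
-/

set_option autoImplicit false
set_option linter.style.haveILetI false

open Cfsg Subgroup
open scoped Pointwise
open Cfsg.Agent.Lib

namespace Cfsg.Agent.Lib.ExtLayer.CoreBalance

universe u

variable {X : Type u} [Group X] [Finite X]

theorem two_fact : Fact (Nat.Prime 2) := ⟨Nat.prime_two⟩

attribute [local instance] two_fact

omit [Finite X] in
/-- An element of odd order with trivial image in a 2-group quotient lies in the kernel. -/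
theorem mem_of_pow_two {N : Subgroup X} {x : X} (hodd : Odd (orderOf x)) {k : ℕ}
    (h : x ^ 2 ^ k ∈ N) : x ∈ N := by
  have hc : (orderOf x).Coprime (2 ^ k) := (Nat.coprime_two_right.2 hodd).pow_right k
  obtain ⟨j, hj⟩ := exists_pow_eq_self_of_coprime hc.symm
  rw [← hj]
  exact pow_mem h j

/-- A group generated by elements of odd order with a central 2-subgroup of odd index has odd
order. -/
theorem odd_of_central (Z : Subgroup X) (hZc : Z ≤ Subgroup.center X) (hZ : IsPGroup 2 Z)
    (hidx : Odd Z.index) (hgen : Subgroup.closure {x : X | Odd (orderOf x)} = ⊤) :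
    Odd (Nat.card X) := by
  haveI : Z.Normal := ⟨fun z hz g => by
    rwa [Subgroup.mem_center_iff.1 (hZc hz) g, mul_inv_cancel_right]⟩
  obtain ⟨j, hj⟩ := IsPGroup.iff_card.1 hZ
  have hcop : (Nat.card Z).Coprime Z.index := by
    rw [hj]
    exact (Nat.coprime_two_left.2 hidx).pow_left j
  obtain ⟨L, hL⟩ := Subgroup.exists_right_complement'_of_coprime hcop
  haveI : L.Normal := by
    rw [← Subgroup.normalizer_eq_top_iff, eq_top_iff, ← hL.sup_eq_top]
    refine sup_le ((hZc.trans (fun z hz => Subgroup.mem_normalizer_iff.2 fun y => ?_)))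
      Subgroup.le_normalizer
    rw [← Subgroup.mem_center_iff.1 hz y, mul_inv_cancel_right]
  have hcard : Nat.card L = Z.index := (hL.symm.index_eq_card).symm
  have hLidx : L.index = 2 ^ j := hL.index_eq_card.trans hj
  have hall : ∀ x : X, Odd (orderOf x) → x ∈ L := fun x hx => by
    refine mem_of_pow_two hx (k := j) ?_
    rw [← hLidx]
    exact Subgroup.pow_index_mem L x
  have htop : L = ⊤ := top_le_iff.1 (hgen ▸ (Subgroup.closure_le L).2 hall)
  rw [← Subgroup.card_top, ← htop, hcard]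
  exact hidx

/-- An element of odd order of `L_{2'}(X) O_{2',2}(X)` lies in `L_{2'}(X) O(X)`. -/
theorem mem_of_odd_base {b : X} (hb : b ∈ base X) (hodd : Odd (orderOf b)) :
    b ∈ pLayer 2 X ⊔ oddCore X := by
  haveI : (pLayer 2 X ⊔ oddCore X).Normal := Subgroup.sup_normal _ _
  obtain ⟨l, hl, v, hv, rfl⟩ := Subgroup.mem_sup_of_normal_left.1 hb
  set q := QuotientGroup.mk' (pLayer 2 X ⊔ oddCore X) with hq
  have hvm : (QuotientGroup.mk' (pPrimeCore 2 X) v) ∈ pCore 2 (X ⧸ pPrimeCore 2 X) := hv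
  obtain ⟨k, hk⟩ := Cores.pCore_isPGroup (G := X ⧸ pPrimeCore 2 X) 2 ⟨_, hvm⟩
  have hv' : v ^ 2 ^ k ∈ oddCore X := by
    refine (QuotientGroup.eq_one_iff _).1 ?_
    rw [QuotientGroup.mk_pow]
    exact congrArg Subtype.val hk
  refine mem_of_pow_two hodd (k := k) ((QuotientGroup.eq_one_iff _).1 ?_)
  have h1 : q l = 1 := (QuotientGroup.eq_one_iff _).2 ((le_sup_left : pLayer 2 X ≤ _) hl)
  show q ((l * v) ^ 2 ^ k) = 1
  rw [map_pow, map_mul, h1, one_mul, ← map_pow]
  exact (QuotientGroup.eq_one_iff _).2 ((le_sup_right : oddCore X ≤ _) hv')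

/-- The image of `L_{2'}(X) O_{2',2}(X)` modulo `O(X)` is the generalized Fitting subgroup. -/
theorem map_base : (base X).map (QuotientGroup.mk' (pPrimeCore 2 X)) =
    generalizedFittingSubgroup (X ⧸ pPrimeCore 2 X) := by
  rw [Subgroup.map_sup, Components.PComponent.map_pLayer, pPrimePCore,
    Subgroup.map_comap_eq_self_of_surjective (QuotientGroup.mk'_surjective _)]
  refine le_antisymm (sup_le le_sup_left ((Cores.pCore_le_fittingSubgroup 2).trans le_sup_right))
    (sup_le le_sup_left ?_)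
  rw [Cores.fittingSubgroup_eq_iSup_pCore]
  refine iSup_le fun q => ?_
  by_cases hq : (q : ℕ) = 2
  · rw [hq]
    exact le_sup_right
  · haveI : Fact (q : ℕ).Prime := ⟨q.2⟩
    have h1 : pCore (q : ℕ) (X ⧸ pPrimeCore 2 X) ≤ pPrimeCore 2 (X ⧸ pPrimeCore 2 X) := by
      refine Cores.le_pPrimeCore ?_
      obtain ⟨k, hk⟩ := IsPGroup.iff_card.1
        (Cores.pCore_isPGroup (G := X ⧸ pPrimeCore 2 X) (q : ℕ))
      rw [hk]
      exact ((Nat.coprime_primes q.2 Nat.prime_two).2 hq).pow_left k
    rw [Cores.pPrimeCore_quotient_pPrimeCore 2] at h1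
    exact h1.trans bot_le

/-- Elements of odd order of `C_X(T)`, `T` a Sylow 2-subgroup of `L_{2'}(X) O_{2',2}(X)`, lie in
`O(C_X(T))`. -/
theorem mem_coreIn_centralizer_hat (hFT : FTDeps.Basic.OddOrderSolvable.{u})
    (T : Sylow 2 ↥(base X)) {x : X} (hx : x ∈ Subgroup.centralizer (hat T : Set X))
    (hodd : Odd (orderOf x)) : x ∈ coreCent T := by
  classical
  set C := Subgroup.centralizer (hat T : Set X) with hC
  set M := Subgroup.closure {y : X | y ∈ C ∧ Odd (orderOf y)} with hM
  have hMC : M ≤ C := (Subgroup.closure_le C).2 fun y hy => hy.1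
  suffices hModd : Odd (Nat.card M) from
    Balance.le_coreIn hMC (fun c hc => by
      rw [Subgroup.mem_normalizer_iff_map_conj_eq]
      show M.map (MulAut.conj c).toMonoidHom = M
      rw [hM, MonoidHom.map_closure]
      congr 1
      ext y
      constructor
      · rintro ⟨z, ⟨hz, hzo⟩, rfl⟩
        refine ⟨C.mul_mem (C.mul_mem hc hz) (C.inv_mem hc), ?_⟩
        rwa [MulEquiv.coe_toMonoidHom, MulEquiv.orderOf_eq]
      · rintro ⟨hy, hyo⟩
        refine ⟨c⁻¹ * y * c, ⟨C.mul_mem (C.mul_mem (C.inv_mem hc) hy) hc, ?_⟩, ?_⟩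
        · have := MulEquiv.orderOf_eq (MulAut.conj c⁻¹) y
          rw [MulAut.conj_apply, inv_inv] at this
          rwa [this]
        · simp [mul_assoc]) (Nat.coprime_two_right.2 hModd)
      (Subgroup.subset_closure ⟨hx, hodd⟩)
  set π := QuotientGroup.mk' (pPrimeCore 2 X) with hπ
  set F := generalizedFittingSubgroup (X ⧸ pPrimeCore 2 X) with hF
  haveI : F.Normal := inferInstance
  set f : ↥(base X) →* ↥F := (π.comp (base X).subtype).codRestrict F fun b =>
    map_base.le (Subgroup.mem_map_of_mem π b.2) with hf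
  have hfsurj : Function.Surjective f := by
    rintro ⟨y, hy⟩
    rw [hF, ← map_base] at hy
    obtain ⟨b, hb, rfl⟩ := hy
    exact ⟨⟨b, hb⟩, rfl⟩
  set S : Sylow 2 ↥F := T.mapSurjective hfsurj with hS
  have hO : ∀ N : Subgroup ↥F, N.Normal → Odd (Nat.card N) → N = ⊥ := fun N hN hodd' => by
    haveI := hN
    have h := Cores.le_pPrimeCore (p := 2) (Nat.coprime_two_right.2 hodd') (N := N)
    exact le_bot_iff.1 (h.trans Balance.pPrimeCore_generalizedFitting_quotient.le)
  set D : Subgroup (MulAut ↥F) := ⨅ s : (S : Subgroup ↥F), MulAction.stabilizer (MulAut ↥F) (s : ↥F)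
  have hD : ∀ φ : MulAut ↥F, φ ∈ D ↔ ∀ s : ↥F, s ∈ S → φ s = s := fun φ => by
    rw [Subgroup.mem_iInf]
    exact ⟨fun h s hs => h ⟨s, hs⟩, fun h s => h s s.2⟩
  haveI : Finite (MulAut ↥F) :=
    Finite.of_injective (fun φ : MulAut ↥F => (φ : ↥F → ↥F)) DFunLike.coe_injective
  obtain ⟨Q⟩ : Nonempty (Sylow 2 ↥D) := inferInstance
  obtain ⟨-, N, hN, hNQ⟩ := (FTDeps.FixingSylowSolvable.structure_of_fixing hFT hO S D hD).1 Q
  haveI := hN
  set g : ↥M →* MulAut ↥F := MulAut.conjNormal.comp (π.comp M.subtype) with hg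
  have hgD : ∀ m : ↥M, g m ∈ D := fun m => (hD _).2 fun s hs => by
    obtain ⟨b, hb, rfl⟩ := (show s ∈ (T : Subgroup ↥(base X)).map f from hs)
    refine Subtype.ext ?_
    show π m * π b * (π m)⁻¹ = π b
    have h1 := Subgroup.mem_centralizer_iff.1 (hMC m.2) b ⟨b, hb, rfl⟩
    rw [← map_mul, ← h1, map_mul, mul_inv_cancel_right]
  set θ : ↥M →* ↥D := g.codRestrict D hgD with hθ
  have hgen : Subgroup.closure {m : ↥M | Odd (orderOf m)} = ⊤ := by
    refine Subgroup.map_injective M.subtype_injective ?_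
    rw [MonoidHom.map_closure, ← MonoidHom.range_eq_map, Subgroup.range_subtype]
    refine (congrArg Subgroup.closure (Set.ext fun y => ?_)).trans hM.symm
    constructor
    · rintro ⟨m, hm, rfl⟩
      exact ⟨hMC m.2, by rwa [Subgroup.coe_subtype, Subgroup.orderOf_coe]⟩
    · intro hy
      exact ⟨⟨y, Subgroup.subset_closure hy⟩, by rw [Set.mem_ofPred_eq, Subgroup.orderOf_mk]; exact hy.2,
        rfl⟩
  have hNidx : ∃ k, N.index = 2 ^ k := by
    obtain ⟨k, hk⟩ := IsPGroup.iff_card.1 Q.2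
    exact ⟨k, hNQ.symm.index_eq_card.trans hk⟩
  have hθN : ∀ m : ↥M, θ m ∈ N := by
    suffices h : N.comap θ = ⊤ by
      intro m
      exact (h.symm ▸ Subgroup.mem_top m : m ∈ N.comap θ)
    obtain ⟨k, hk⟩ := hNidx
    rw [eq_top_iff, ← hgen, Subgroup.closure_le]
    intro m hm
    refine mem_of_pow_two hm (k := k) ?_
    rw [Subgroup.mem_comap, map_pow, ← hk]
    exact Subgroup.pow_index_mem N _
  have hNodd : Odd (Nat.card N) := by
    rw [← Nat.not_even_iff_odd, even_iff_two_dvd, ← hNQ.index_eq_card]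
    exact Q.not_dvd_index
  have hkidx : Odd θ.ker.index := by
    rw [Subgroup.index_ker]
    exact hNodd.of_dvd_nat (Subgroup.card_dvd_of_le (by rintro _ ⟨m, rfl⟩; exact hθN m))
  -- the image of `M` in `X / O(X)`
  set πM : ↥M →* ↥(M.map π) := π.subgroupMap M with hπM
  have hsurj : Function.Surjective πM := π.subgroupMap_surjective M
  have hMbar : Odd (Nat.card ↥(M.map π)) := by
    refine odd_of_central (θ.ker.map πM) ?_ ?_ ?_ ?_
    · rintro _ ⟨m, hm, rfl⟩
      rw [Subgroup.mem_center_iff]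
      intro y
      obtain ⟨m', rfl⟩ := hsurj y
      refine Subtype.ext ?_
      show π m' * π m = π m * π m'
      have hmF : π m ∈ Subgroup.centralizer (F : Set (X ⧸ pPrimeCore 2 X)) :=
        Subgroup.mem_centralizer_iff.2 fun a ha => by
          have h1 : g m = 1 := congrArg Subtype.val hm
          have h2 : π m * a * (π m)⁻¹ = a :=
            congrArg Subtype.val (DFunLike.congr_fun h1 (⟨a, ha⟩ : ↥F))
          calc a * π m = (π m * a * (π m)⁻¹) * π m := by rw [h2]
            _ = π m * a := by group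
      have hzF : π m ∈ F := Components.GenFitting.centralizer_le hmF
      have hz : (⟨π m, hzF⟩ : ↥F) ∈ Subgroup.center ↥F := Subgroup.mem_center_iff.2 fun a =>
        Subtype.ext (Subgroup.mem_centralizer_iff.1 hmF a a.2)
      obtain ⟨b, hb, hbm⟩ := center_le_sylow hO S hz
      have hbm' : π b = π m := congrArg Subtype.val hbm
      rw [← hbm', ← map_mul, ← map_mul,
        Subgroup.mem_centralizer_iff.1 (hMC m'.2) b ⟨b, hb, rfl⟩]
    · intro y
      obtain ⟨_, m, hm, rfl⟩ := y
      have hmF : π m ∈ Subgroup.centralizer (F : Set (X ⧸ pPrimeCore 2 X)) :=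
        Subgroup.mem_centralizer_iff.2 fun a ha => by
          have h1 : g m = 1 := congrArg Subtype.val hm
          have h2 : π m * a * (π m)⁻¹ = a :=
            congrArg Subtype.val (DFunLike.congr_fun h1 (⟨a, ha⟩ : ↥F))
          calc a * π m = (π m * a * (π m)⁻¹) * π m := by rw [h2]
            _ = π m * a := by group
      have hzF : π m ∈ F := Components.GenFitting.centralizer_le hmF
      have hz : (⟨π m, hzF⟩ : ↥F) ∈ Subgroup.center ↥F := Subgroup.mem_center_iff.2 fun a =>
        Subtype.ext (Subgroup.mem_centralizer_iff.1 hmF a a.2)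
      obtain ⟨k, hk⟩ := IsPGroup.iff_orderOf.1 S.2 ⟨_, center_le_sylow hO S hz⟩
      rw [Subgroup.orderOf_mk, Subgroup.orderOf_mk] at hk
      refine ⟨k, Subtype.ext (Subtype.ext ?_)⟩
      show (π m) ^ 2 ^ k = 1
      rw [← hk, pow_orderOf_eq_one]
    · exact hkidx.of_dvd_nat (Subgroup.index_map_dvd _ hsurj)
    · rw [eq_top_iff]
      intro y _
      obtain ⟨m, rfl⟩ := hsurj y
      have hm : m ∈ Subgroup.closure {m : ↥M | Odd (orderOf m)} := hgen.symm ▸ Subgroup.mem_top m
      refine Subgroup.closure_mono ?_ ((MonoidHom.map_closure πM _) ▸ Subgroup.mem_map_of_mem πM hm)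
      rintro _ ⟨a, ha, rfl⟩
      exact Odd.of_dvd_nat ha (orderOf_map_dvd πM a)
  have hkodd : Odd (Nat.card πM.ker) := by
    have hle : πM.ker.map M.subtype ≤ pPrimeCore 2 X := by
      rintro _ ⟨m, hm, rfl⟩
      exact (QuotientGroup.eq_one_iff _).1 (congrArg Subtype.val hm)
    have h := Subgroup.card_dvd_of_le hle
    rw [Subgroup.card_map_of_injective M.subtype_injective] at h
    exact (Nat.coprime_two_right.1 (Cores.pPrimeCore_coprime 2)).of_dvd_nat h
  rw [← Subgroup.card_mul_index πM.ker, Subgroup.index_ker,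
    MonoidHom.range_eq_top.2 hsurj, Subgroup.card_top]
  exact hkodd.mul hMbar
where
  center_le_sylow {H : Type u} [Group H] [Finite H]
      (hO : ∀ N : Subgroup H, N.Normal → Odd (Nat.card N) → N = ⊥) (S : Sylow 2 H) :
      Subgroup.center H ≤ (S : Subgroup H) := by
    obtain ⟨P⟩ : Nonempty (Sylow 2 ↥(Subgroup.center H)) := inferInstance
    have hP : (P : Subgroup ↥(Subgroup.center H)) = ⊤ := by
      rw [← Subgroup.index_eq_one]
      by_contra hne
      obtain ⟨q, hq, hqd⟩ := Nat.exists_prime_and_dvd hne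
      haveI : Fact q.Prime := ⟨hq⟩
      have hq2 : q ≠ 2 := fun h => P.not_dvd_index (h ▸ hqd)
      obtain ⟨z, hz⟩ := exists_prime_orderOf_dvd_card' (G := ↥(Subgroup.center H)) q
        (hqd.trans (Subgroup.index_dvd_card _))
      have hzc : (z : H) ∈ Subgroup.center H := z.2
      have hz' : orderOf (z : H) = q := by rw [Subgroup.orderOf_coe, hz]
      haveI : (Subgroup.zpowers (z : H)).Normal := ⟨fun a ha g => by
        rwa [Subgroup.mem_center_iff.1 ((Subgroup.zpowers_le.2 hzc) ha) g, mul_inv_cancel_right]⟩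
      have h := hO (Subgroup.zpowers (z : H)) inferInstance
        (by rw [Nat.card_zpowers, hz']; exact hq.odd_of_ne_two hq2)
      rw [Subgroup.zpowers_eq_bot] at h
      rw [h, orderOf_one] at hz'
      exact hq.ne_one hz'.symm
    have hpg : IsPGroup 2 ↥(Subgroup.center H) := by
      intro z
      obtain ⟨k, hk⟩ := P.2 ⟨z, hP.symm ▸ Subgroup.mem_top z⟩
      exact ⟨k, congrArg Subtype.val hk⟩
    exact (Cores.le_pCore hpg).trans (Cores.pCore_le_sylow S)

/-- **Core balance**: `O(C_X(R)) ≤ L*_{2'}(X)` for a 2-subgroup `R`. -/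
theorem coreIn_centralizer_le (hFT : FTDeps.Basic.OddOrderSolvable.{u}) :
    ∀ R : Subgroup X, IsPGroup 2 R →
      Balance.coreIn 2 (Subgroup.centralizer (R : Set X)) ≤ extendedTwoLayer X := by
  intro R
  induction R using WellFoundedGT.induction with
  | _ R ih =>
  intro hR
  set C := Subgroup.centralizer (R : Set X) with hC
  set W := Balance.coreIn 2 C with hW
  have hWodd : Odd (Nat.card W) := Nat.coprime_two_right.1 (Balance.coreIn_coprime C)
  have hoddel : ∀ w ∈ W, Odd (orderOf w) := fun w hw =>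
    hWodd.of_dvd_nat (Subgroup.orderOf_dvd_natCard W hw)
  obtain ⟨S0'⟩ : Nonempty (Sylow 2 ↥(base X ⊓ Subgroup.normalizer (R : Set X))) := inferInstance
  set S0 := (S0' : Subgroup ↥(base X ⊓ Subgroup.normalizer (R : Set X))).map
    (base X ⊓ Subgroup.normalizer (R : Set X)).subtype with hS0
  have hS0B : S0 ≤ base X := (Subgroup.map_subtype_le _).trans inf_le_left
  have hS0N : S0 ≤ Subgroup.normalizer (R : Set X) := (Subgroup.map_subtype_le _).trans inf_le_right
  have hS0p : IsPGroup 2 S0 := S0'.2.map _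
  by_cases hle : S0 ≤ R
  · -- `R ∩ B` is a Sylow 2-subgroup of `B`
    obtain ⟨P, hRP⟩ := hR.exists_le_sylow
    have hPB : (P : Subgroup X) ⊓ base X ≤ R := by
      by_contra hne
      set U := R ⊔ ((P : Subgroup X) ⊓ base X) with hU
      have hUP : U ≤ P := sup_le hRP inf_le_left
      have hlt : R < U := lt_of_le_of_ne le_sup_left fun h => hne (h ▸ le_sup_right)
      haveI : Group.IsNilpotent ↥U := (P.2.to_le hUP).isNilpotent
      have hlt' : R.subgroupOf U < ⊤ := lt_top_iff_ne_top.2 fun h => hlt.not_ge fun y hy =>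
        (h.symm ▸ Subgroup.mem_top (⟨y, hy⟩ : ↥U) : (⟨y, hy⟩ : ↥U) ∈ R.subgroupOf U)
      obtain ⟨⟨w, hwU⟩, hwN, hwR⟩ :=
        SetLike.exists_of_lt (Group.normalizerCondition_of_isNilpotent (R.subgroupOf U) hlt')
      have hwN' : w ∈ Subgroup.normalizer (R : Set X) := by
        rw [Subgroup.mem_normalizer_iff]
        intro h
        constructor
        · intro hh
          exact Subgroup.mem_subgroupOf.1
            ((Subgroup.mem_normalizer_iff.1 hwN ⟨h, hlt.le hh⟩).1 (Subgroup.mem_subgroupOf.2 hh))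
        · intro hh
          have hhU : h ∈ U := by
            have := U.mul_mem (U.mul_mem (U.inv_mem hwU) (hlt.le hh)) hwU
            rwa [show w⁻¹ * (w * h * w⁻¹) * w = h by group] at this
          exact Subgroup.mem_subgroupOf.1
            ((Subgroup.mem_normalizer_iff.1 hwN ⟨h, hhU⟩).2 (Subgroup.mem_subgroupOf.2 hh))
      haveI : (base X).Normal := base_normal
      have hU' : U ≤ Subgroup.normalizer (((P : Subgroup X) ⊓ base X : Subgroup X) : Set X) :=
        le_trans hUP fun y hy => by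
          rw [Subgroup.mem_normalizer_iff_map_conj_eq]
          show Subgroup.map (MulAut.conj y).toMonoidHom _ = _
          rw [Subgroup.map_inf _ _ (MulAut.conj y).toMonoidHom (MulAut.conj y).injective]
          exact congrArg₂ (· ⊓ ·)
            (Subgroup.mem_normalizer_iff_map_conj_eq.1 (Subgroup.le_normalizer hy))
            (Subgroup.mem_normalizer_iff_map_conj_eq.1 (by rw [Subgroup.normalizer_eq_top]; trivial))
      obtain ⟨r, hr, t, ht, rfl⟩ : w ∈ (R : Set X) * (((P : Subgroup X) ⊓ base X : Subgroup X) : Set X) :=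
        (Subgroup.coe_mul_of_left_le_normalizer_right R _ (le_sup_left.trans hU')).subset hwU
      have htN : t ∈ Subgroup.normalizer (R : Set X) :=
        (Subgroup.mul_mem_cancel_left _ (Subgroup.le_normalizer hr)).1 hwN'
      have htR : t ∉ R := fun h => hwR (R.mul_mem hr h)
      obtain ⟨k, hk⟩ := IsPGroup.iff_orderOf.1 P.2 ⟨t, ht.1⟩
      rw [Subgroup.orderOf_mk] at hk
      have hz : IsPGroup 2 ↥(Subgroup.zpowers (⟨t, ht.2, htN⟩ :
          ↥(base X ⊓ Subgroup.normalizer (R : Set X)))) :=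
        IsPGroup.of_card (n := k) (by rw [Nat.card_zpowers, ← Subgroup.orderOf_coe]; exact hk)
      obtain ⟨S1, hS1⟩ := hz.exists_le_sylow
      obtain ⟨b, rfl⟩ := MulAction.exists_smul_eq (↥(base X ⊓ Subgroup.normalizer (R : Set X))) S0' S1
      obtain ⟨s, hs, hst⟩ := hS1 (Subgroup.mem_zpowers _)
      have hst' : (b : X) * (s : X) * (b : X)⁻¹ = t := congrArg Subtype.val hst
      exact htR (hst' ▸ (Subgroup.mem_normalizer_iff.1 b.2.2 s).1 (hle ⟨s, hs, rfl⟩))
    obtain ⟨T, hT⟩ := exists_sylow_le (R := R ⊓ base X) (hR.to_le inf_le_left) inf_le_right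
    have hTR : hat T ≤ R := by
      refine (Subgroup.eq_of_le_of_card_ge hT ?_).ge.trans inf_le_left
      obtain ⟨P', hP'⟩ := (T.2.map (base X).subtype).exists_le_sylow
      obtain ⟨g, hg⟩ := MulAction.exists_smul_eq X P' P
      have h1 : (hat T).map (MulAut.conj g).toMonoidHom ≤ R ⊓ base X := by
        haveI : (base X).Normal := base_normal
        rintro _ ⟨t, ht, rfl⟩
        have h2 : (MulAut.conj g) t ∈ (P : Subgroup X) ⊓ base X :=
          ⟨hg ▸ Subgroup.mem_map_of_mem _ (hP' ht),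
            (inferInstance : (base X).Normal).conj_mem t (Subgroup.map_subtype_le _ ht) g⟩
        exact ⟨hPB h2, h2.2⟩
      have h3 := Nat.le_of_dvd Nat.card_pos (Subgroup.card_dvd_of_le h1)
      rwa [Subgroup.card_map_of_injective (f := (MulAut.conj g).toMonoidHom)
        (MulAut.conj g).injective] at h3
    rw [extendedTwoLayer_eq_single T]
    intro w hw
    refine (le_sup_right : coreCent T ≤ _) (mem_coreIn_centralizer_hat hFT T ?_ (hoddel w hw))
    exact Subgroup.centralizer_le hTR (Balance.coreIn_le C hw)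
  · -- enlarge `R`
    set R' := R ⊔ S0 with hR'
    have hR'p : IsPGroup 2 ↥R' := by
      rw [hR', sup_comm]
      exact hS0p.to_sup_of_normal_right' hR hS0N
    have hlt : R < R' := lt_of_le_of_ne le_sup_left fun h => hle (h ▸ le_sup_right)
    have ih' := ih R' hlt hR'p
    have hNW : Subgroup.normalizer (R : Set X) ≤ Subgroup.normalizer (W : Set X) :=
      normalizer_le_normalizer_coreIn_centralizer R
    haveI : (base X).Normal := base_normal
    set W0 := W ⊓ base X with hW0
    set H := W0 ⊔ S0 with hH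
    have hS0W0 : S0 ≤ Subgroup.normalizer (W0 : Set X) := fun s hs => by
      rw [Subgroup.mem_normalizer_iff_map_conj_eq]
      show Subgroup.map (MulAut.conj s).toMonoidHom _ = _
      rw [Subgroup.map_inf _ _ (MulAut.conj s).toMonoidHom (MulAut.conj s).injective]
      exact congrArg₂ (· ⊓ ·)
        (Subgroup.mem_normalizer_iff_map_conj_eq.1 (hNW (hS0N hs)))
        (Subgroup.mem_normalizer_iff_map_conj_eq.1 (by rw [Subgroup.normalizer_eq_top]; trivial))
    intro w hw
    -- Sylow 2-subgroups of `W0 S0`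
    have hW0odd : Odd (Nat.card W0) := hWodd.of_dvd_nat (Subgroup.card_dvd_of_le inf_le_left)
    have hidx : ¬ 2 ∣ (S0.subgroupOf H).index := by
      intro h2
      have h3 : S0.relIndex H ∣ Nat.card W0 := by
        rw [hH]
        exact relIndex_sup_dvd hS0W0
      exact hW0odd.not_two_dvd_nat (h2.trans h3)
    let A : Sylow 2 ↥H := (hS0p.of_equiv (Subgroup.subgroupOfEquivOfLe
      (le_sup_right : S0 ≤ H)).symm).toSylow hidx
    have hconjH : S0.map (MulAut.conj w).toMonoidHom ≤ H := by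
      rintro _ ⟨s, hs, rfl⟩
      have h1 : w * s * w⁻¹ * s⁻¹ ∈ W0 := ⟨by
        rw [show w * s * w⁻¹ * s⁻¹ = w * (s * w⁻¹ * s⁻¹) by group]
        exact W.mul_mem hw ((Subgroup.mem_normalizer_iff.1 (hNW (hS0N hs)) _).1 (W.inv_mem hw)),
        (base X).mul_mem ((inferInstance : (base X).Normal).conj_mem s (hS0B hs) w)
          ((base X).inv_mem (hS0B hs))⟩
      have h2 := H.mul_mem ((le_sup_left : W0 ≤ H) h1) ((le_sup_right : S0 ≤ H) hs)
      rwa [inv_mul_cancel_right] at h2
    obtain ⟨B1, hB1⟩ := IsPGroup.exists_le_sylow (P := (S0.map (MulAut.conj w).toMonoidHom).subgroupOf H)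
      ((hS0p.map _).of_equiv (Subgroup.subgroupOfEquivOfLe hconjH).symm)
    obtain ⟨h, hh⟩ := MulAction.exists_smul_eq (↥H) A B1
    obtain ⟨a, ha, s₁, hs₁, hhe⟩ : (h : X) ∈ (W0 : Set X) * (S0 : Set X) :=
      (Subgroup.coe_mul_of_right_le_normalizer_left W0 S0 hS0W0).subset h.2
    have hfix : ∀ s ∈ S0, (a⁻¹ * w) * s * (a⁻¹ * w)⁻¹ ∈ S0 := by
      intro s hs
      have h1 := hB1 (show (⟨w * s * w⁻¹, hconjH ⟨s, hs, rfl⟩⟩ : ↥H) ∈ _ from
        Subgroup.mem_subgroupOf.2 ⟨s, hs, rfl⟩)
      rw [← hh] at h1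
      obtain ⟨z, hz, hze⟩ := h1
      have hze' : (h : X) * (z : X) * (h : X)⁻¹ = w * s * w⁻¹ := congrArg Subtype.val hze
      rw [show a⁻¹ * w * s * (a⁻¹ * w)⁻¹ = a⁻¹ * (w * s * w⁻¹) * a by group, ← hze', ← hhe,
        show a⁻¹ * (a * s₁ * (z : X) * (a * s₁)⁻¹) * a = s₁ * (z : X) * s₁⁻¹ by group]
      exact S0.mul_mem (S0.mul_mem hs₁ (Subgroup.mem_subgroupOf.1 hz)) (S0.inv_mem hs₁)
    have hv : a⁻¹ * w ∈ W ⊓ Subgroup.centralizer (S0 : Set X) := by
      have hvW : a⁻¹ * w ∈ W := W.mul_mem (W.inv_mem ha.1) hw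
      refine ⟨hvW, Subgroup.mem_centralizer_iff.2 fun s hs => ?_⟩
      set v := a⁻¹ * w
      have hS : v * s * v⁻¹ * s⁻¹ ∈ S0 := S0.mul_mem (hfix s hs) (S0.inv_mem hs)
      have hW' : v * s * v⁻¹ * s⁻¹ ∈ W := by
        rw [show v * s * v⁻¹ * s⁻¹ = v * (s * v⁻¹ * s⁻¹) by group]
        exact W.mul_mem hvW ((Subgroup.mem_normalizer_iff.1 (hNW (hS0N hs)) _).1 (W.inv_mem hvW))
      have h1 : v * s * v⁻¹ * s⁻¹ = 1 := by
        obtain ⟨k, hk⟩ := IsPGroup.iff_orderOf.1 hS0p ⟨_, hS⟩
        rw [Subgroup.orderOf_mk] at hk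
        rw [← orderOf_eq_one_iff, hk]
        rcases k with _ | k
        · rfl
        · exact absurd ((dvd_pow_self 2 k.succ_ne_zero).trans (hk.symm.dvd.trans (dvd_refl _)))
            (hoddel _ hW').not_two_dvd_nat
      calc s * v = (v * s * v⁻¹ * s⁻¹) * (s * v) := by rw [h1, one_mul]
        _ = v * s := by group
    have hW1 : W ⊓ Subgroup.centralizer (S0 : Set X) ≤
        Balance.coreIn 2 (Subgroup.centralizer (R' : Set X)) := by
      refine Balance.le_coreIn (fun y hy => ?_) (fun c hc => ?_)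
        ((Nat.coprime_two_right.2 hWodd).coprime_dvd_left (Subgroup.card_dvd_of_le inf_le_left))
      · have h1 : R' ≤ Subgroup.centralizer ({y} : Set X) := sup_le
          (fun r hr => Subgroup.mem_centralizer_singleton_iff.2
            (Subgroup.mem_centralizer_iff.1 (Balance.coreIn_le C hy.1) r hr))
          (fun r hr => Subgroup.mem_centralizer_singleton_iff.2
            (Subgroup.mem_centralizer_iff.1 hy.2 r hr))
        exact Subgroup.mem_centralizer_iff.2 fun r hr =>
          Subgroup.mem_centralizer_singleton_iff.1 (h1 hr)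
      · have h1 : c ∈ Subgroup.normalizer (W : Set X) :=
          Balance.le_normalizer_coreIn C (Subgroup.centralizer_le (show (R : Set X) ⊆ R' from fun _ h => (le_sup_left : R ≤ R') h) hc)
        have h2 : c ∈ Subgroup.normalizer (Subgroup.centralizer (S0 : Set X) : Set X) :=
          Subgroup.le_normalizer (Subgroup.centralizer_le (le_sup_right : S0 ≤ R') hc)
        rw [Subgroup.mem_normalizer_iff_map_conj_eq] at h1 h2 ⊢
        show Subgroup.map (MulAut.conj c).toMonoidHom _ = _
        rw [Subgroup.map_inf _ _ (MulAut.conj c).toMonoidHom (MulAut.conj c).injective]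
        exact congrArg₂ (· ⊓ ·) h1 h2
    rw [show w = a * (a⁻¹ * w) by group]
    refine (extendedTwoLayer X).mul_mem ?_ (ih' (hW1 hv))
    rw [extendedTwoLayer_eq]
    exact (le_sup_left : pLayer 2 X ⊔ oddCore X ≤ _) (mem_of_odd_base ha.2 (hoddel a ha.1))
where
  relIndex_sup_dvd {W0 S0 : Subgroup X} (h : S0 ≤ Subgroup.normalizer (W0 : Set X)) :
      S0.relIndex (W0 ⊔ S0) ∣ Nat.card W0 := by
    have h2 := Cores.card_sup_dvd_mul (S0.subgroupOf (Subgroup.normalizer (W0 : Set X)))
      (W0.subgroupOf (Subgroup.normalizer (W0 : Set X)))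
    rw [← Subgroup.subgroupOf_sup h Subgroup.le_normalizer,
      Nat.card_congr (Subgroup.subgroupOfEquivOfLe (sup_le h Subgroup.le_normalizer)).toEquiv,
      Nat.card_congr (Subgroup.subgroupOfEquivOfLe h).toEquiv,
      Nat.card_congr (Subgroup.subgroupOfEquivOfLe Subgroup.le_normalizer).toEquiv,
      sup_comm] at h2
    have h3 := Subgroup.card_mul_index (S0.subgroupOf (W0 ⊔ S0))
    rw [Nat.card_congr (Subgroup.subgroupOfEquivOfLe (le_sup_right : S0 ≤ W0 ⊔ S0)).toEquiv] at h3
    rw [← h3] at h2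
    exact Nat.dvd_of_mul_dvd_mul_left Nat.card_pos h2

end Cfsg.Agent.Lib.ExtLayer.CoreBalance
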