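import Cfsg.Agent.Lib.ExtLayer.CoreBalance
import Cfsg.Agent.Lib.Balance.LBalanceTwo
import Cfsg.Agent.Lib.ZStar.StronglyClosed

/-!
# `L*`-balance for the prime 2

Owner: helper3. Namespace `Cfsg.Agent.Lib.ExtLayer.LStarBalance`.

`map_extendedTwoLayer_le`: the extended 2-layer of a normal subgroup of `C_X(R)`, `R` a 2-subgroup,
lies in the extended 2-layer of `X`. No hypothesis on composition factors is needed.
-/

set_option autoImplicit false
set_option linter.style.haveILetI false

open Cfsg Subgroup
open Cfsg.Agent.Lib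

namespace Cfsg.Agent.Lib.ExtLayer.LStarBalance

universe u

variable {X : Type u} [Group X] [Finite X]

attribute [local instance] CoreBalance.two_fact

omit [Finite X] in
/-- A perfect subgroup of a solvable subgroup is trivial. -/
theorem eq_bot_of_perfect {A B : Subgroup X} (hA : ⁅A, A⁆ = A) (hle : A ≤ B)
    (hB : Group.IsSolvable ↥B) : A = ⊥ := by
  haveI : Group.IsSolvable ↥A :=
    Group.isSolvable_of_isSolvable_injective (Subgroup.inclusion_injective hle)
  have hperf : commutator ↥A = ⊤ := by
    refine Subgroup.map_injective A.subtype_injective ?_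
    rw [Subgroup.map_subtype_commutator, hA, ← MonoidHom.range_eq_map, Subgroup.range_subtype]
  have hd : ∀ n, derivedSeries ↥A n = ⊤ := fun n => by
    induction n with
    | zero => rfl
    | succ n ih => rw [derivedSeries_succ, ih]; exact hperf
  obtain ⟨n, hn⟩ := (Group.isSolvable_def ↥A).1 inferInstance
  rw [hd n] at hn
  refine (Subgroup.eq_bot_iff_forall A).2 fun a ha => ?_
  have h : (⟨a, ha⟩ : ↥A) ∈ (⊤ : Subgroup ↥A) := Subgroup.mem_top _
  rw [hn, Subgroup.mem_bot] at h
  exact congrArg Subtype.val h

/-- The 2-layer of a normal subgroup lies in the 2-layer. -/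
theorem map_pLayer_le (hFT : FTDeps.Basic.OddOrderSolvable.{u}) {H : Type u} [Group H] [Finite H]
    (f : H →* X) (hf : Function.Injective f) (hn : f.range.Normal) :
    (pLayer 2 H).map f ≤ pLayer 2 X := by
  set π := QuotientGroup.mk' (pPrimeCore 2 X) with hπ
  have h1 : (pLayer 2 H).map f ≤ pLayer 2 X ⊔ pPrimeCore 2 X := by
    rw [Subgroup.map_le_iff_le_comap]
    refine sSup_le fun K hK => ?_
    rw [← Subgroup.map_le_iff_le_comap]
    have hsn : (K.map f).IsSubnormal := by
      have h2 : (K.map f.rangeRestrict).IsSubnormal :=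
        hK.1.map f.rangeRestrict_surjective
      have h3 := h2.trans' hn.isSubnormal
      rwa [Subgroup.map_map, MonoidHom.subtype_comp_rangeRestrict] at h3
    have hker := Balance.pPrimeCore_eq_ker_subgroupMap (p := 2) hsn
    have hq : IsQuasisimple ↥((K.map f).map π) := by
      refine Components.Quasisimple.of_mulEquiv (Balance.isQuasisimple_quotient_core hK) ?_
      let e : ↥K ≃* ↥(K.map f) := K.equivMapOfInjective f hf
      refine (QuotientGroup.congr (pPrimeCore 2 ↥K) (pPrimeCore 2 ↥(K.map f)) e
        (Cores.map_pPrimeCore_equiv e)).trans ?_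
      exact (QuotientGroup.quotientMulEquivOfEq hker.symm).trans
        (QuotientGroup.quotientKerEquivOfSurjective _ (π.subgroupMap_surjective (K.map f)))
    have hcomp : IsComponent ((K.map f).map π) :=
      ⟨hsn.map (QuotientGroup.mk'_surjective _), hq⟩
    have h4 : (K.map f).map π ≤ (pLayer 2 X).map π :=
      (le_sSup (s := {K | IsComponent K}) hcomp).trans Components.PComponent.map_pLayer.ge
    rw [Subgroup.map_le_iff_le_comap, Subgroup.comap_map_eq, QuotientGroup.ker_mk'] at h4
    exact h4
  set q := QuotientGroup.mk' (pLayer 2 X) with hq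
  have h2 : ((pLayer 2 H).map f).map q = ⊥ := by
    refine eq_bot_of_perfect (B := (pPrimeCore 2 X).map q) ?_ ?_ ?_
    · rw [← Subgroup.map_commutator, ← Subgroup.map_commutator,
        Components.PComponent.commutator_pLayer_self]
    · refine (Subgroup.map_mono h1).trans ?_
      rw [Subgroup.map_sup]
      exact sup_le (((Subgroup.map_eq_bot_iff _).2 (QuotientGroup.ker_mk' _).ge).le.trans bot_le)
        le_rfl
    · exact hFT _ ((Nat.coprime_two_right.1 (Cores.pPrimeCore_coprime 2)).of_dvd_nat
        (Subgroup.card_map_dvd _ _))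
  rw [Subgroup.map_eq_bot_iff, QuotientGroup.ker_mk'] at h2
  exact h2

omit [Finite X] in
/-- The core of the image of a subgroup under an injective homomorphism. -/
theorem map_coreIn {H : Type u} [Group H] (f : H →* X) (hf : Function.Injective f) (C : Subgroup H) :
    (Balance.coreIn 2 C).map f = Balance.coreIn 2 (C.map f) := by
  rw [Balance.coreIn, Balance.coreIn, ← Cores.map_pPrimeCore_equiv (C.equivMapOfInjective f hf),
    Subgroup.map_map, Subgroup.map_map]
  rfl

/-- **`L*`-balance**. -/
theorem map_extendedTwoLayer_le (hFT : FTDeps.Basic.OddOrderSolvable.{u}) {H : Type u} [Group H]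
    [Finite H] (f : H →* X) (hf : Function.Injective f) {R : Subgroup X} (hR : IsPGroup 2 R)
    (hle : f.range ≤ Subgroup.centralizer (R : Set X))
    (hnorm : Subgroup.centralizer (R : Set X) ≤ Subgroup.normalizer (f.range : Set X)) :
    (extendedTwoLayer H).map f ≤ extendedTwoLayer X := by
  rw [extendedTwoLayer_eq, Subgroup.map_sup, Subgroup.map_sup, Subgroup.map_iSup]
  refine sup_le (sup_le ?_ ?_) (iSup_le fun T => ?_)
  · set D := Subgroup.centralizer (R : Set X) with hD
    set g : H →* ↥D := f.codRestrict D (fun h => hle ⟨h, rfl⟩) with hg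
    have hgr : g.range.map D.subtype = f.range := by
      rw [MonoidHom.map_range]
      rfl
    have hgn : g.range.Normal := by
      have h := (Subgroup.normal_subgroupOf_iff_le_normalizer hle).2 hnorm
      have : g.range = f.range.subgroupOf D := by
        refine Subgroup.map_injective D.subtype_injective ?_
        rw [hgr, Subgroup.map_subgroupOf_eq_of_le hle]
      rwa [this]
    have h1 := map_pLayer_le hFT g (fun a b hab => hf (congrArg Subtype.val hab)) hgn
    have h2 := Balance.twoLayer_centralizer_le ZStar.StronglyClosed.involutionThm hR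
    refine le_trans ?_ (h2.trans (le_sup_left.trans le_sup_left))
    refine le_trans (le_of_eq ?_) (Subgroup.map_mono (f := D.subtype) h1)
    rw [Subgroup.map_map]
    rfl
  · have h1 : (oddCore H).map f = Balance.coreIn 2 f.range := by
      rw [MonoidHom.range_eq_map, ← map_coreIn f hf, Balance.coreIn_top]
    rw [h1]
    exact (Balance.coreIn_le_coreIn hle hnorm).trans (CoreBalance.coreIn_centralizer_le hFT R hR)
  · set T' := (hat T).map f with hT'
    have hT'p : IsPGroup 2 ↥T' := (T.2.map _).map _
    have hT'D : T' ≤ Subgroup.centralizer (R : Set X) := (Subgroup.map_le_range f _).trans hle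
    have hsup : IsPGroup 2 ↥(T' ⊔ R) := hT'p.to_sup_of_normal_right' hR (hT'D.trans
      (Subgroup.centralizer_le_normalizer _))
    refine le_trans ?_ (CoreBalance.coreIn_centralizer_le hFT (T' ⊔ R) hsup)
    have hmap : (Subgroup.centralizer (hat T : Set H)).map f =
        f.range ⊓ Subgroup.centralizer (T' : Set X) := by
      ext y
      constructor
      · rintro ⟨h, hh, rfl⟩
        refine ⟨⟨h, rfl⟩, Subgroup.mem_centralizer_iff.2 ?_⟩
        rintro _ ⟨t, ht, rfl⟩
        rw [← map_mul, ← map_mul, Subgroup.mem_centralizer_iff.1 hh t ht]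
      · rintro ⟨⟨h, rfl⟩, hh⟩
        refine ⟨h, Subgroup.mem_centralizer_iff.2 fun t ht => hf ?_, rfl⟩
        rw [map_mul, map_mul]
        exact Subgroup.mem_centralizer_iff.1 hh _ ⟨t, ht, rfl⟩
    show (Balance.coreIn 2 (Subgroup.centralizer (hat T : Set H))).map f ≤ _
    rw [map_coreIn f hf, hmap]
    have hc : Subgroup.centralizer ((T' ⊔ R : Subgroup X) : Set X) =
        Subgroup.centralizer (T' : Set X) ⊓ Subgroup.centralizer (R : Set X) := by
      refine le_antisymm (le_inf (Subgroup.centralizer_le fun _ h => (le_sup_left : T' ≤ T' ⊔ R) h)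
        (Subgroup.centralizer_le fun _ h => (le_sup_right : R ≤ T' ⊔ R) h)) fun y hy => ?_
      have h1 : T' ⊔ R ≤ Subgroup.centralizer ({y} : Set X) := sup_le
        (fun r hr => Subgroup.mem_centralizer_singleton_iff.2 (Subgroup.mem_centralizer_iff.1 hy.1 r hr))
        (fun r hr => Subgroup.mem_centralizer_singleton_iff.2 (Subgroup.mem_centralizer_iff.1 hy.2 r hr))
      exact Subgroup.mem_centralizer_iff.2 fun r hr =>
        Subgroup.mem_centralizer_singleton_iff.1 (h1 hr)
    rw [hc]
    refine Balance.coreIn_le_coreIn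
      (le_inf inf_le_right (inf_le_left.trans hle)) fun y hy => ?_
    have h2 := Subgroup.mem_normalizer_iff_map_conj_eq.1 (hnorm hy.2)
    have h3 := Subgroup.mem_normalizer_iff_map_conj_eq.1
      (Subgroup.le_normalizer (H := Subgroup.centralizer (T' : Set X)) hy.1)
    rw [Subgroup.mem_normalizer_iff_map_conj_eq]
    show Subgroup.map (MulAut.conj y).toMonoidHom _ = _
    rw [Subgroup.map_inf _ _ (MulAut.conj y).toMonoidHom (MulAut.conj y).injective]
    exact congrArg₂ (· ⊓ ·) h2 h3

end Cfsg.Agent.Lib.ExtLayer.LStarBalance
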